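import Cfsg.Agent.Lib.Quadratic.TwoGen
import Cfsg.Agent.Lib.GLOrder.Basic

/-!
An irreducible `SL₂(F)`-module in characteristic `p` on which the upper unitriangular group acts
quadratically, or has a fixed space `W` with `|M| ≤ |W|²`, is natural: `exists_natural`.
-/

set_option autoImplicit false
set_option linter.unusedSectionVars false

open Matrix

namespace Cfsg.Agent.SL2Natural

open Quadratic (upperE lowerE upperE_val lowerE_val upperE_mul upperE_zero)

variable {F : Type*} [Field F]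

local notation "SL" => Matrix.SpecialLinearGroup (Fin 2) F

/-- `upperE t * lowerE (-t⁻¹) * upperE t`, the matrix `[[0, t], [-t⁻¹, 0]]`. -/
def wE (t : F) : SL := upperE t * lowerE (-t⁻¹) * upperE t

theorem wE_val {t : F} (ht : t ≠ 0) : (wE t).1 = !![0, t; -t⁻¹, 0] := by
  show (upperE t).1 * (lowerE (-t⁻¹)).1 * (upperE t).1 = _
  rw [upperE_val, lowerE_val]
  ext i j
  fin_cases i <;> fin_cases j <;> simp [Matrix.mul_apply, Fin.sum_univ_two, ht]

theorem wE_braid {t : F} (ht : t ≠ 0) : wE t = lowerE (-t⁻¹) * upperE t * lowerE (-t⁻¹) := by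
  apply Subtype.ext
  show _ = (lowerE (-t⁻¹)).1 * (upperE t).1 * (lowerE (-t⁻¹)).1
  rw [wE_val ht, upperE_val, lowerE_val]
  ext i j
  fin_cases i <;> fin_cases j <;> simp [Matrix.mul_apply, Fin.sum_univ_two, ht]

theorem lower_wE {t : F} (ht : t ≠ 0) (s : F) : lowerE s * wE t = wE t * upperE (-s * (t * t)) := by
  apply Subtype.ext
  show (lowerE s).1 * (wE t).1 = (wE t).1 * (upperE (-s * (t * t))).1
  rw [wE_val ht, upperE_val, lowerE_val]
  ext i j
  fin_cases i <;> fin_cases j <;> simp [Matrix.mul_apply, Fin.sum_univ_two, ht] <;> field_simp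

theorem upper_wE {t : F} (ht : t ≠ 0) (s : F) : upperE s * wE t = wE t * lowerE (-s * (t⁻¹ * t⁻¹)) := by
  apply Subtype.ext
  show (upperE s).1 * (wE t).1 = (wE t).1 * (lowerE (-s * (t⁻¹ * t⁻¹))).1
  rw [wE_val ht, upperE_val, lowerE_val]
  ext i j
  fin_cases i <;> fin_cases j <;> simp [Matrix.mul_apply, Fin.sum_univ_two, ht] <;> field_simp

theorem wE_neg {t : F} (ht : t ≠ 0) : wE t * wE (-t) = 1 := by
  apply Subtype.ext
  show (wE t).1 * (wE (-t)).1 = 1
  rw [wE_val ht, wE_val (neg_ne_zero.2 ht)]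
  ext i j
  fin_cases i <;> fin_cases j <;> simp [Matrix.mul_apply, Fin.sum_univ_two, ht]

theorem wE_torus {t s : F} (ht : t ≠ 0) (hs : s ≠ 0) :
    wE t * wE (-1) * wE s = wE (t * s) := by
  apply Subtype.ext
  show (wE t).1 * (wE (-1)).1 * (wE s).1 = (wE (t * s)).1
  rw [wE_val ht, wE_val hs, wE_val (mul_ne_zero ht hs), wE_val (neg_ne_zero.2 (one_ne_zero' F))]
  ext i j
  fin_cases i <;> fin_cases j <;> simp [Matrix.mul_apply, Fin.sum_univ_two, mul_comm]

theorem wE_swap {s : F} (hs : s ≠ 0) : wE (-s⁻¹) = wE (-1) * (wE s * wE (-1)) := by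
  apply Subtype.ext
  show (wE (-s⁻¹)).1 = (wE (-1)).1 * ((wE s).1 * (wE (-1)).1)
  rw [wE_val hs, wE_val (neg_ne_zero.2 (inv_ne_zero hs)), wE_val (neg_ne_zero.2 (one_ne_zero' F))]
  ext i j
  fin_cases i <;> fin_cases j <;> simp [Matrix.mul_apply, Fin.sum_univ_two]

/-- The unitriangular matrices generate. -/
theorem closure_upper_lower :
    Subgroup.closure (Set.range (upperE : F → SL) ∪ Set.range (lowerE : F → SL)) = ⊤ := by
  rw [eq_top_iff]
  have hu : ∀ t, (upperE t : SL) ∈ Subgroup.closure (Set.range (upperE : F → SL) ∪ Set.range (lowerE : F → SL)) :=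
    fun t => Subgroup.subset_closure (Or.inl ⟨t, rfl⟩)
  have hl : ∀ t, (lowerE t : SL) ∈ Subgroup.closure (Set.range (upperE : F → SL) ∪ Set.range (lowerE : F → SL)) :=
    fun t => Subgroup.subset_closure (Or.inr ⟨t, rfl⟩)
  have key : ∀ g : SL, g.1 1 0 ≠ 0 →
      g ∈ Subgroup.closure (Set.range (upperE : F → SL) ∪ Set.range (lowerE : F → SL)) := by
    intro g hc
    have hdet : g.1 0 0 * g.1 1 1 - g.1 0 1 * g.1 1 0 = 1 := by rw [← Matrix.det_fin_two]; exact g.2
    have hg : g = upperE ((g.1 0 0 - 1) / g.1 1 0) * lowerE (g.1 1 0) * upperE ((g.1 1 1 - 1) / g.1 1 0) := by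
      apply Subtype.ext
      show g.1 = (upperE _).1 * (lowerE _).1 * (upperE _).1
      rw [upperE_val, lowerE_val, upperE_val]
      ext i j
      fin_cases i <;> fin_cases j <;> simp [Matrix.mul_apply, Fin.sum_univ_two, hc]
      all_goals field_simp
      all_goals first | ring1 | linear_combination -hdet | linear_combination hdet
    rw [hg]
    exact mul_mem (mul_mem (hu _) (hl _)) (hu _)
  intro g _
  by_cases hc : g.1 1 0 = 0
  · have ha : g.1 0 0 ≠ 0 := by
      intro ha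
      have hdet := g.2
      rw [Matrix.det_fin_two, ha, hc] at hdet
      simp at hdet
    have h : ((lowerE 1 : SL) * g).1 1 0 = g.1 0 0 := by
      show ((lowerE (1 : F)).1 * g.1) 1 0 = _
      simp [lowerE_val, Matrix.mul_apply, Fin.sum_univ_two, hc]
    exact (Subgroup.mul_mem_cancel_left _ (hl 1)).1 (key _ (by rw [h]; exact ha))
  · exact key g hc

/-- The unitriangular matrices generate as a monoid. -/
theorem mem_mclosure [Finite F] (g : SL) :
    g ∈ Submonoid.closure (Set.range (upperE : F → SL) ∪ Set.range (lowerE : F → SL)) := by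
  rw [← Subgroup.closure_toSubmonoid_of_finite, Subgroup.mem_toSubmonoid, closure_upper_lower]
  exact Subgroup.mem_top g

section Module

variable {M : Type*} [AddCommGroup M] (σ : Matrix.SpecialLinearGroup (Fin 2) F →* AddMonoid.End M)

theorem act_mul (g h : SL) (m : M) : σ (g * h) m = σ g (σ h m) := by rw [map_mul]; rfl

theorem act_one (m : M) : σ 1 m = m := by rw [map_one]; rfl

/-- Fixed points of the upper unitriangular group. -/
def fixU : AddSubgroup M where
  carrier := {m | ∀ t : F, σ (upperE t) m = m}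
  zero_mem' := fun t => map_zero _
  add_mem' := fun {a b} ha hb t => by rw [map_add, ha t, hb t]
  neg_mem' := fun {a} ha t => by rw [map_neg, ha t]

/-- Fixed points of the lower unitriangular group. -/
def fixL : AddSubgroup M where
  carrier := {m | ∀ t : F, σ (lowerE t) m = m}
  zero_mem' := fun t => map_zero _
  add_mem' := fun {a b} ha hb t => by rw [map_add, ha t, hb t]
  neg_mem' := fun {a} ha t => by rw [map_neg, ha t]

variable {σ}

theorem w_mem_fixL {t : F} (ht : t ≠ 0) {m : M} (hm : m ∈ fixU σ) : σ (wE t) m ∈ fixL σ := fun s => by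
  rw [← act_mul, lower_wE ht, act_mul, hm]

theorem w_mem_fixU {t : F} (ht : t ≠ 0) {m : M} (hm : m ∈ fixL σ) : σ (wE t) m ∈ fixU σ := fun s => by
  rw [← act_mul, upper_wE ht, act_mul, hm]

theorem w_neg_w {t : F} (ht : t ≠ 0) (m : M) : σ (wE t) (σ (wE (-t)) m) = m := by
  rw [← act_mul, wE_neg ht, act_one]

theorem eq_zero_of_fix (hfix : ∀ m, (∀ g, σ g m = m) → m = 0) {m : M} (hu : m ∈ fixU σ) (hl : m ∈ fixL σ) :
    m = 0 := by
  refine hfix m fun g => ?_
  induction (closure_upper_lower (F := F)).symm ▸ Subgroup.mem_top g using Subgroup.closure_induction with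
  | mem x hx =>
    rcases hx with ⟨t, rfl⟩ | ⟨t, rfl⟩
    · exact hu t
    · exact hl t
  | one => exact act_one σ m
  | mul x y _ _ ihx ihy => rw [act_mul, ihy, ihx]
  | inv x _ ih =>
    conv_lhs => rw [← ih]
    rw [← act_mul, inv_mul_cancel, act_one]

/-- Invariance under the generators suffices. -/
theorem invariant_of_gen (N : AddSubgroup M) [Finite F] (hu : ∀ t, ∀ m ∈ N, σ (upperE t) m ∈ N)
    (hl : ∀ t, ∀ m ∈ N, σ (lowerE t) m ∈ N) : ∀ g, ∀ m ∈ N, σ g m ∈ N := by
  intro g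
  induction mem_mclosure (F := F) g using Submonoid.closure_induction with
  | mem x hx =>
    rcases hx with ⟨t, rfl⟩ | ⟨t, rfl⟩
    · exact hu t
    · exact hl t
  | one => intro m hm; rw [act_one]; exact hm
  | mul x y _ _ ihx ihy => intro m hm; rw [act_mul]; exact ihx _ (ihy m hm)

/-- For `v` fixed by the lower group and fixed by the upper group modulo `fixU`, `upperE t` adds `wE t v`. -/
theorem upper_eq (hfix : ∀ m, (∀ g, σ g m = m) → m = 0) {t : F} (ht : t ≠ 0) {v : M} (hv : v ∈ fixL σ)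
    (hd : σ (upperE t) v - v ∈ fixU σ) :
    σ (upperE t) v = v + σ (wE t) v ∧ σ (wE t) (σ (wE t) v) = -v ∧
      σ (lowerE (-t⁻¹)) (σ (wE t) v) = σ (wE t) v - v := by
  set c := σ (upperE t) v - v with hc
  have hwv := w_mem_fixU ht hv
  have hx : σ (upperE t) v = v + c := by rw [hc, add_sub_cancel]
  have h1 : σ (wE t) v = v + σ (lowerE (-t⁻¹)) c := by
    rw [wE_braid ht, act_mul, act_mul, hv, hx, map_add, hv]
  have hy : σ (lowerE (-t⁻¹)) c = σ (wE t) v - v := by rw [h1, add_sub_cancel_left]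
  have h2 : σ (wE t) c = σ (wE t) v - v - c := by
    conv_lhs => rw [wE, act_mul, act_mul, hd t, hy, map_sub, hwv t, hx]
    abel
  have h0 : σ (wE t) v - c = 0 := by
    refine eq_zero_of_fix hfix ((fixU σ).sub_mem hwv hd) ?_
    rw [show σ (wE t) v - c = σ (wE t) c + v by rw [h2]; abel]
    exact (fixL σ).add_mem (w_mem_fixL ht hd) hv
  have hcw : c = σ (wE t) v := (sub_eq_zero.1 h0).symm
  refine ⟨by rw [hx, hcw], ?_, ?_⟩
  · rw [← hcw, h2, ← hcw]; abel
  · rw [hcw] at hy; exact hy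

variable [Finite M] [Finite F]

/-- `fixL` is moved by the upper group into `fixU`. -/
theorem decomposition {p n : ℕ} [Fact p.Prime] (hF : Nat.card F = p ^ n) (hp : ∀ m : M, p • m = 0)
    (hirr : ∀ N : AddSubgroup M, (∀ g, ∀ m ∈ N, σ g m ∈ N) → N = ⊥ ∨ N = ⊤)
    (hfix : ∀ m, (∀ g, σ g m = m) → m = 0) (hne : ∃ m : M, m ≠ 0)
    (hyp : (∀ a b m, σ (upperE a) (σ (upperE b) m - m) = σ (upperE b) m - m) ∨
      Nat.card M ≤ Nat.card ↥(fixU σ) ^ 2) :
    fixU σ ⊔ fixL σ = ⊤ ∧ ∀ v ∈ fixL σ, ∀ t, σ (upperE t) v - v ∈ fixU σ := by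
  have h1 : (1 : F) ≠ 0 := one_ne_zero
  rcases hyp with hq | hcard
  · have hd : ∀ m t, σ (upperE t) m - m ∈ fixU σ := fun m t a => hq a t m
    have hd' : ∀ m t, σ (lowerE t) m - m ∈ fixL σ := by
      intro m t
      have h := w_mem_fixL h1 (hd (σ (wE (-1)) m) (-t * (1 * 1)))
      rwa [map_sub, ← act_mul σ (wE 1) (upperE _), ← lower_wE h1, act_mul, w_neg_w h1] at h
    refine ⟨(hirr _ (invariant_of_gen _ (fun t m hm => ?_) fun t m hm => ?_)).resolve_left fun h => ?_,
      fun v _ t => hd v t⟩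
    · rw [← sub_add_cancel (σ (upperE t) m) m]
      exact add_mem (AddSubgroup.mem_sup_left (hd m t)) hm
    · rw [← sub_add_cancel (σ (lowerE t) m) m]
      exact add_mem (AddSubgroup.mem_sup_right (hd' m t)) hm
    · obtain ⟨m, hm⟩ := hne
      refine hm (hfix m fun g => ?_)
      have hU : fixU σ = ⊥ := le_bot_iff.1 (le_sup_left.trans h.le)
      have hL : fixL σ = ⊥ := le_bot_iff.1 (le_sup_right.trans h.le)
      induction (closure_upper_lower (F := F)).symm ▸ Subgroup.mem_top g using Subgroup.closure_induction with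
      | mem x hx =>
        rcases hx with ⟨t, rfl⟩ | ⟨t, rfl⟩
        · have := hd m t
          rw [hU, AddSubgroup.mem_bot, sub_eq_zero] at this
          exact this
        · have := hd' m t
          rw [hL, AddSubgroup.mem_bot, sub_eq_zero] at this
          exact this
      | one => exact act_one σ m
      | mul x y _ _ ihx ihy => rw [act_mul, ihy, ihx]
      | inv x _ ih =>
        conv_lhs => rw [← ih]
        rw [← act_mul, inv_mul_cancel, act_one]
  · let s : ↥(fixU σ) × ↥(fixL σ) → M := fun z => z.1.1 + z.2.1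
    have hinj : Function.Injective s := by
      rintro ⟨a, b⟩ ⟨a', b'⟩ h
      have h' : a.1 - a'.1 = b'.1 - b.1 := sub_eq_sub_iff_add_eq_add.2 (show a.1 + b.1 = b'.1 + a'.1 by
        rw [add_comm b'.1]; exact h)
      have h0 := eq_zero_of_fix hfix ((fixU σ).sub_mem a.2 a'.2) (h' ▸ (fixL σ).sub_mem b'.2 b.2)
      rw [sub_eq_zero] at h0
      rw [h0, sub_self, eq_comm, sub_eq_zero] at h'
      exact Prod.ext (Subtype.ext h0) (Subtype.ext h'.symm)
    have hUL : Nat.card ↥(fixU σ) ≤ Nat.card ↥(fixL σ) :=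
      Nat.card_le_card_of_injective (fun a => ⟨σ (wE 1) a.1, w_mem_fixL h1 a.2⟩) fun a b h => by
        have h' := congrArg (σ (wE (-1))) (congrArg Subtype.val h)
        have hn : ∀ m : M, σ (wE (-1)) (σ (wE 1) m) = m := fun m => by
          simpa using w_neg_w (σ := σ) (neg_ne_zero.2 h1) m
        simp only [hn] at h'
        exact Subtype.ext h'
    have hle : Nat.card M ≤ Nat.card (↥(fixU σ) × ↥(fixL σ)) := by
      rw [Nat.card_prod]
      exact hcard.trans (by rw [pow_two]; exact Nat.mul_le_mul_left _ hUL)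
    have hbij : Function.Bijective s := by
      refine (Nat.bijective_iff_injective_and_card s).2 ⟨hinj, ?_⟩
      exact le_antisymm (Nat.card_le_card_of_injective s hinj) hle
    have htop : fixU σ ⊔ fixL σ = ⊤ := eq_top_iff.2 fun m _ => by
      obtain ⟨⟨a, b⟩, rfl⟩ := hbij.2 m
      exact add_mem (AddSubgroup.mem_sup_left a.2) (AddSubgroup.mem_sup_right b.2)
    refine ⟨htop, ?_⟩
    let Dm : AddSubgroup M :=
      { carrier := {v | v ∈ fixL σ ∧ ∀ t, σ (upperE t) v - v ∈ fixU σ}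
        zero_mem' := ⟨zero_mem _, fun t => by rw [map_zero, sub_zero]; exact zero_mem _⟩
        add_mem' := fun {a b} ha hb => ⟨add_mem ha.1 hb.1, fun t => by
          rw [map_add, add_sub_add_comm]; exact add_mem (ha.2 t) (hb.2 t)⟩
        neg_mem' := fun {a} ha => ⟨neg_mem ha.1, fun t => by
          rw [map_neg, ← neg_sub', ]; exact neg_mem (ha.2 t)⟩ }
    let Dp : AddSubgroup M :=
      { carrier := {v | v ∈ fixU σ ∧ ∀ t, σ (lowerE t) v - v ∈ fixL σ}
        zero_mem' := ⟨zero_mem _, fun t => by rw [map_zero, sub_zero]; exact zero_mem _⟩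
        add_mem' := fun {a b} ha hb => ⟨add_mem ha.1 hb.1, fun t => by
          rw [map_add, add_sub_add_comm]; exact add_mem (ha.2 t) (hb.2 t)⟩
        neg_mem' := fun {a} ha => ⟨neg_mem ha.1, fun t => by
          rw [map_neg, ← neg_sub', ]; exact neg_mem (ha.2 t)⟩ }
    have hmp : ∀ t, t ≠ 0 → ∀ v ∈ Dm, σ (wE t) v ∈ Dp := fun t ht v hv =>
      ⟨w_mem_fixU ht hv.1, fun s => by
        rw [← act_mul, lower_wE ht, act_mul, ← map_sub]; exact w_mem_fixL ht (hv.2 _)⟩
    have hpm : ∀ t, t ≠ 0 → ∀ v ∈ Dp, σ (wE t) v ∈ Dm := fun t ht v hv =>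
      ⟨w_mem_fixL ht hv.1, fun s => by
        rw [← act_mul, upper_wE ht, act_mul, ← map_sub]; exact w_mem_fixU ht (hv.2 _)⟩
    have hup : ∀ t, ∀ m ∈ Dp ⊔ Dm, σ (upperE t) m ∈ Dp ⊔ Dm := by
      intro t m hm
      obtain ⟨a, ha, b, hb, rfl⟩ := AddSubgroup.mem_sup.1 hm
      rw [map_add, ha.1 t]
      refine add_mem (AddSubgroup.mem_sup_left ha) ?_
      by_cases ht : t = 0
      · rw [ht, upperE_zero, act_one]; exact AddSubgroup.mem_sup_right hb
      rw [(upper_eq hfix ht hb.1 (hb.2 t)).1]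
      exact add_mem (AddSubgroup.mem_sup_right hb) (AddSubgroup.mem_sup_left (hmp t ht b hb))
    have hlow : ∀ t, ∀ m ∈ Dp ⊔ Dm, σ (lowerE t) m ∈ Dp ⊔ Dm := by
      intro s m hm
      obtain ⟨a, ha, b, hb, rfl⟩ := AddSubgroup.mem_sup.1 hm
      rw [map_add, hb.1 s]
      refine add_mem ?_ (AddSubgroup.mem_sup_right hb)
      by_cases hs : s = 0
      · rw [hs, show lowerE (0 : F) = 1 from Subtype.ext (Matrix.one_fin_two).symm, act_one]
        exact AddSubgroup.mem_sup_left ha
      have ht : -s⁻¹ ≠ 0 := neg_ne_zero.2 (inv_ne_zero hs)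
      have hv := hpm _ (neg_ne_zero.2 ht) a ha
      have h := (upper_eq hfix ht hv.1 (hv.2 _)).2.2
      rw [w_neg_w ht, show -(-s⁻¹)⁻¹ = s by rw [inv_neg, inv_inv, neg_neg]] at h
      rw [h]
      exact sub_mem (AddSubgroup.mem_sup_left ha) (AddSubgroup.mem_sup_right hv)
    -- a nonzero element of `Dm`
    have hWne : fixU σ ≠ ⊥ := by
      intro h
      obtain ⟨m, hm⟩ := hne
      have : Nat.card M ≤ 1 := by rw [h, AddSubgroup.card_bot, one_pow] at hcard; exact hcard
      have := Finite.card_le_one_iff_subsingleton.1 this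
      exact hm (Subsingleton.elim _ _)
    have hpW : p ∣ Nat.card ↥(fixU σ) := by
      obtain ⟨⟨a, ha⟩, ha1⟩ := (AddSubgroup.ne_bot_iff_exists_ne_zero).1 hWne
      have h := addOrderOf_dvd_natCard (⟨a, ha⟩ : ↥(fixU σ))
      rwa [addOrderOf_eq_prime (p := p) (Subtype.ext (hp a)) ha1] at h
    have hWpos : 0 < Nat.card ↥(fixU σ) := Nat.card_pos
    have hMW : Nat.card (M ⧸ fixU σ) = Nat.card ↥(fixL σ) := by
      refine mul_right_cancel₀ hWpos.ne' ?_
      rw [← AddSubgroup.card_eq_card_quotient_mul_card_addSubgroup, ← Nat.card_eq_of_bijective s hbij, Nat.card_prod,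
        mul_comm]
    have hLU : Nat.card ↥(fixL σ) = Nat.card ↥(fixU σ) := by
      refine le_antisymm (Nat.le_of_mul_le_mul_left ?_ hWpos) hUL
      rw [← pow_two, ← Nat.card_prod, Nat.card_eq_of_bijective s hbij]
      exact hcard
    have hU : IsPGroup p (Multiplicative F) := IsPGroup.of_card (n := n) hF
    have hstab : ∀ u : F, fixU σ ≤ (fixU σ).comap (σ (upperE u)) := fun u m hm => by
      show σ (upperE u) m ∈ fixU σ
      rw [hm u]; exact hm
    letI : MulAction (Multiplicative F) (M ⧸ fixU σ) :=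
      { smul := fun u z => QuotientAddGroup.map _ _ (σ (upperE u.toAdd)) (hstab _) z
        one_smul := fun z => by
          induction z using QuotientAddGroup.induction_on with
          | H m =>
            show ((σ (upperE 0) m : M) : M ⧸ fixU σ) = m
            rw [upperE_zero, act_one]
        mul_smul := fun u v z => by
          induction z using QuotientAddGroup.induction_on with
          | H m =>
            show ((σ (upperE (u.toAdd + v.toAdd)) m : M) : M ⧸ fixU σ) = (σ (upperE u.toAdd) (σ (upperE v.toAdd) m) : M)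
            rw [← upperE_mul, act_mul] }
    obtain ⟨z, hz, hz0⟩ := hU.exists_fixed_point_of_prime_dvd_card_of_fixed_point (M ⧸ fixU σ)
      (by rw [hMW, hLU]; exact hpW) (a := 0) (fun u => map_zero (QuotientAddGroup.map _ _ (σ (upperE u.toAdd)) (hstab _)))
    obtain ⟨m, rfl⟩ := QuotientAddGroup.mk_surjective z
    obtain ⟨⟨a, b⟩, rfl⟩ := hbij.2 m
    have hb : b.1 ∈ Dm := ⟨b.2, fun t => by
      have h : ((σ (upperE t) (a.1 + b.1) : M) : M ⧸ fixU σ) = ((a.1 + b.1 : M) : M ⧸ fixU σ) :=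
        hz (Multiplicative.ofAdd t)
      rw [QuotientAddGroup.eq, map_add, a.2 t] at h
      have := neg_mem h
      rwa [show -(-(a.1 + σ (upperE t) b.1) + (a.1 + b.1)) = σ (upperE t) b.1 - b.1 by abel] at this⟩
    have hb0 : b.1 ≠ 0 := by
      intro h
      apply hz0
      show (0 : M ⧸ fixU σ) = ((a.1 + b.1 : M) : M ⧸ fixU σ)
      rw [h, add_zero, eq_comm, QuotientAddGroup.eq_zero_iff]
      exact a.2
    have hX := (hirr _ (invariant_of_gen _ hup hlow)).resolve_left fun h => hb0 <| by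
      have : b.1 ∈ Dp ⊔ Dm := AddSubgroup.mem_sup_right hb
      rwa [h, AddSubgroup.mem_bot] at this
    intro v hv t
    obtain ⟨a', ha', b', hb', rfl⟩ := AddSubgroup.mem_sup.1 (hX.ge (AddSubgroup.mem_top v) : v ∈ Dp ⊔ Dm)
    have h0 := eq_zero_of_fix hfix ha'.1 ((add_mem_cancel_right hb'.1).1 hv)
    rw [h0, zero_add]
    exact hb'.2 t

/-- The module is natural. -/
theorem exists_natural {p n : ℕ} [Fact p.Prime] (hF : Nat.card F = p ^ n) (hp : ∀ m : M, p • m = 0)
    (hirr : ∀ N : AddSubgroup M, (∀ g, ∀ m ∈ N, σ g m ∈ N) → N = ⊥ ∨ N = ⊤)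
    (hnt : ∃ g m, σ g m ≠ m)
    (hyp : (∀ a b m, σ (upperE a) (σ (upperE b) m - m) = σ (upperE b) m - m) ∨
      Nat.card M ≤ Nat.card ↥(fixU σ) ^ 2) :
    ∃ Φ : (Fin 2 → F) →+ M, Function.Bijective Φ ∧ ∀ g v, Φ (g.1.mulVec v) = σ g (Φ v) := by
  obtain ⟨g₀, m₀, hgm⟩ := hnt
  have hfix : ∀ m, (∀ g, σ g m = m) → m = 0 := by
    let C : AddSubgroup M :=
      { carrier := {m | ∀ g, σ g m = m}
        zero_mem' := fun g => map_zero _
        add_mem' := fun {a b} ha hb g => by rw [map_add, ha g, hb g]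
        neg_mem' := fun {a} ha g => by rw [map_neg, ha g] }
    intro m hm
    rcases hirr C (fun g m hm => by rw [hm g]; exact hm) with h | h
    · exact (AddSubgroup.eq_bot_iff_forall C).1 h m hm
    · exact absurd ((h.ge (AddSubgroup.mem_top m₀) : m₀ ∈ C) g₀) hgm
  obtain ⟨htop, hd⟩ := decomposition hF hp hirr hfix ⟨m₀, fun h => hgm (by rw [h, map_zero])⟩ hyp
  have h1 : (1 : F) ≠ 0 := one_ne_zero
  have hn1 : (-1 : F) ≠ 0 := neg_ne_zero.2 h1
  have hw1 : ∀ m : M, σ (wE (-1)) (σ (wE 1) m) = m := fun m => by simpa using w_neg_w (σ := σ) hn1 m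
  let f : ∀ t : F, ↥(fixL σ) → M := fun t v => σ (upperE t) v.1 - v.1
  have hfW : ∀ t v, f t v ∈ fixU σ := fun t v => hd v.1 v.2 t
  have hf0 : ∀ v, f 0 v = 0 := fun v => by simp [f, upperE_zero, act_one]
  have hfw : ∀ t, t ≠ 0 → ∀ v, f t v = σ (wE t) v.1 := fun t ht v => by
    show σ (upperE t) v.1 - v.1 = _
    rw [(upper_eq hfix ht v.2 (hd v.1 v.2 t)).1, add_sub_cancel_left]
  have hfadd : ∀ s t v, f (s + t) v = f s v + f t v := fun s t v => by
    show σ (upperE (s + t)) v.1 - v.1 = _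
    rw [← upperE_mul, act_mul, show σ (upperE t) v.1 = v.1 + f t v from (add_sub_cancel _ _).symm, map_add,
      hfW t v s]
    show _ = σ (upperE s) v.1 - v.1 + f t v
    abel
  obtain ⟨c₀, hc₀, hc0⟩ : ∃ c ∈ fixU σ, c ≠ 0 := by
    by_contra h
    push Not at h
    have hU : fixU σ = ⊥ := (AddSubgroup.eq_bot_iff_forall _).2 h
    rw [hU, bot_sup_eq] at htop
    refine hgm ?_
    have hm : m₀ ∈ fixL σ := htop.ge (AddSubgroup.mem_top _)
    have h0 : m₀ = 0 := by
      rw [← w_neg_w (σ := σ) h1 m₀, h _ (w_mem_fixU h1 (htop.ge (AddSubgroup.mem_top _)))]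
    rw [h0, map_zero]
  set v₀ : ↥(fixL σ) := ⟨σ (wE (-1)) c₀, w_mem_fixL hn1 hc₀⟩ with hv₀
  let k : F → ↥(fixL σ) := fun b => ⟨σ (wE (-1)) (f b v₀), w_mem_fixL hn1 (hfW b v₀)⟩
  let Φ : (Fin 2 → F) →+ M := AddMonoidHom.mk' (fun v => f (v 0) v₀ + (k (v 1)).1) fun v w => by
    show f (v 0 + w 0) v₀ + σ (wE (-1)) (f (v 1 + w 1) v₀) = _
    rw [hfadd, hfadd, map_add]
    show _ = f (v 0) v₀ + σ (wE (-1)) (f (v 1) v₀) + (f (w 0) v₀ + σ (wE (-1)) (f (w 1) v₀))
    abel
  have hΦ : ∀ v, Φ v = f (v 0) v₀ + (k (v 1)).1 := fun v => rfl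
  have hk : ∀ t b, f t (k b) = f (t * b) v₀ := by
    intro t b
    by_cases hb : b = 0
    · have h0 : (k b).1 = 0 := by show σ (wE (-1)) (f b v₀) = 0; rw [hb, hf0, map_zero]
      rw [hb, mul_zero, hf0]
      show σ (upperE t) (k 0).1 - (k 0).1 = 0
      rw [hb] at h0
      rw [h0, map_zero, sub_zero]
    by_cases ht : t = 0
    · rw [ht, zero_mul, hf0, hf0]
    rw [hfw t ht, hfw _ (mul_ne_zero ht hb)]
    show σ (wE t) (σ (wE (-1)) (f b v₀)) = _
    rw [hfw b hb, ← act_mul, ← act_mul, wE_torus ht hb]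
  have hu : ∀ t v, σ (upperE t) (Φ v) = Φ ((upperE t).1.mulVec v) := by
    intro t v
    have e0 : ((upperE t).1.mulVec v) 0 = v 0 + t * v 1 := by
      simp [upperE_val, Matrix.mulVec, dotProduct, Fin.sum_univ_two]
    have e1 : ((upperE t).1.mulVec v) 1 = v 1 := by
      simp [upperE_val, Matrix.mulVec, dotProduct, Fin.sum_univ_two]
    rw [hΦ, hΦ, e0, e1, map_add, hfW _ _ t, hfadd, ← hk]
    show _ = f (v 0) v₀ + (σ (upperE t) (k (v 1)).1 - (k (v 1)).1) + (k (v 1)).1
    abel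
  have hl : ∀ s v, σ (lowerE s) (Φ v) = Φ ((lowerE s).1.mulVec v) := by
    intro s v
    have e0 : ((lowerE s).1.mulVec v) 0 = v 0 := by
      simp [lowerE_val, Matrix.mulVec, dotProduct, Fin.sum_univ_two]
    have e1 : ((lowerE s).1.mulVec v) 1 = s * v 0 + v 1 := by
      simp [lowerE_val, Matrix.mulVec, dotProduct, Fin.sum_univ_two]
    rw [hΦ, hΦ, e0, e1, map_add, (k (v 1)).2 s]
    show _ = f (v 0) v₀ + σ (wE (-1)) (f (s * v 0 + v 1) v₀)
    rw [hfadd, map_add, ← add_assoc]
    congr 1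
    by_cases hs : s = 0
    · rw [hs, zero_mul, hf0, map_zero, add_zero, show lowerE (0 : F) = 1 from Subtype.ext (Matrix.one_fin_two).symm,
        act_one]
    set c := f (v 0) v₀ with hc
    set t := -s⁻¹ with htdef
    have ht : t ≠ 0 := neg_ne_zero.2 (inv_ne_zero hs)
    have hv := w_mem_fixL (σ := σ) (neg_ne_zero.2 ht) (hfW (v 0) v₀)
    obtain ⟨-, h2, h3⟩ := upper_eq hfix ht hv (hd _ hv t)
    rw [← hc, w_neg_w ht] at h2 h3
    rw [show -t⁻¹ = s by rw [htdef, inv_neg, inv_inv, neg_neg], sub_eq_add_neg, ← h2] at h3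
    rw [h3, ← hk, hfw s hs]
    congr 1
    show _ = σ (wE (-1)) (σ (wE s) (σ (wE (-1)) c))
    rw [htdef, wE_swap hs, act_mul, act_mul]
  have heq : ∀ g v, Φ (g.1.mulVec v) = σ g (Φ v) := by
    intro g
    induction mem_mclosure (F := F) g using Submonoid.closure_induction with
    | mem x hx =>
      rcases hx with ⟨t, rfl⟩ | ⟨t, rfl⟩
      · exact fun v => (hu t v).symm
      · exact fun v => (hl t v).symm
    | one => intro v; rw [act_one]; exact congrArg Φ (Matrix.one_mulVec v)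
    | mul x y _ _ ihx ihy =>
      intro v
      rw [act_mul, ← ihy, ← ihx, Matrix.mulVec_mulVec]
      rfl
  have hf1 : f 1 v₀ = c₀ := by rw [hfw 1 h1, hv₀]; exact w_neg_w h1 c₀
  refine ⟨Φ, ⟨?_, ?_⟩, heq⟩
  · rw [injective_iff_map_eq_zero]
    intro v hv
    rw [hΦ] at hv
    have ha : f (v 0) v₀ = 0 := eq_zero_of_fix hfix (hfW _ _) (by
      rw [show f (v 0) v₀ = -(k (v 1)).1 from eq_neg_of_add_eq_zero_left hv]
      exact neg_mem (k (v 1)).2)
    rw [ha, zero_add] at hv
    have hv' : σ (wE (-1)) (f (v 1) v₀) = 0 := hv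
    have hb : f (v 1) v₀ = 0 := by rw [← w_neg_w (σ := σ) h1 (f (v 1) v₀), hv', map_zero]
    have key : ∀ a, f a v₀ = 0 → a = 0 := fun a h => by
      by_contra ha
      rw [hfw a ha] at h
      have h' : v₀.1 = 0 := by
        have := congrArg (σ (wE (-a))) h
        rwa [map_zero, ← act_mul, show wE (-a) * wE a = 1 by simpa using wE_neg (neg_ne_zero.2 ha), act_one] at this
      refine hc0 ?_
      rw [← w_neg_w (σ := σ) h1 c₀]
      show σ (wE 1) v₀.1 = 0
      rw [h', map_zero]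
    funext i
    fin_cases i
    · exact key _ ha
    · exact key _ hb
  · have htop' : Φ.range = ⊤ := by
      refine (hirr _ fun g m hm => ?_).resolve_left fun h => hc0 ?_
      · obtain ⟨v, rfl⟩ := hm
        exact ⟨_, heq g v⟩
      · have : Φ ![1, 0] = 0 := (AddSubgroup.eq_bot_iff_forall _).1 h _ ⟨_, rfl⟩
        rw [hΦ] at this
        rw [← hf1]
        simpa [k, hf0] using this
    exact AddMonoidHom.range_eq_top.1 htop'

end Module

end Cfsg.Agent.SL2Natural
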